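import Mathlib

/-!
# Counting scalar multiples of powers inside a small span (helper5; piece (B) of S2262)

If all the powers of an invertible matrix `N` are combinations of `1, N, …, N ^ (d - 1)` with coefficients in
a multiplicatively closed set `S0` of scalars containing `0`, then the order `m` of `N` modulo the centre of
`GL_d(F)` satisfies `(|S0| - 1) m ≤ |S0| ^ d - 1`.
-/

set_option autoImplicit false

namespace Cfsg.Agent.Lib.Helper5.MeoB

open Matrix

variable {F : Type*} [Field F] {d : ℕ}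

theorem count_bound [DecidableEq F] (hd : 1 ≤ d) (S0 : Finset F) (h0 : (0 : F) ∈ S0)
    (hmul : ∀ a ∈ S0, ∀ b ∈ S0, a * b ∈ S0) (N : GL (Fin d) F)
    (hspan : ∀ k : ℕ, ∃ c : Fin d → F, (∀ i, c i ∈ S0) ∧
      N.val ^ k = ∑ i : Fin d, c i • N.val ^ (i : ℕ)) :
    (S0.card - 1) * orderOf (QuotientGroup.mk N : GL (Fin d) F ⧸ Subgroup.center (GL (Fin d) F))
      ≤ S0.card ^ d - 1 := by
  classical
  have hne : Nonempty (Fin d) := ⟨⟨0, by omega⟩⟩
  obtain ⟨m, hm⟩ : ∃ m, m = orderOf (QuotientGroup.mk N :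
      GL (Fin d) F ⧸ Subgroup.center (GL (Fin d) F)) := ⟨_, rfl⟩
  rw [← hm]
  have hpow_ne : ∀ k : ℕ, N.val ^ k ≠ 0 := by
    intro k h
    have h1 : ((N ^ k : GL (Fin d) F) : Matrix (Fin d) (Fin d) F) = 0 := by
      rw [Units.val_pow_eq_pow_val]; exact h
    exact (N ^ k).ne_zero h1
  let Φ : (Fin d → {x // x ∈ S0}) → Matrix (Fin d) (Fin d) F :=
    fun c => ∑ i : Fin d, (c i : F) • N.val ^ (i : ℕ)
  let V : Finset (Matrix (Fin d) (Fin d) F) := Finset.univ.image Φ
  have hVcard : V.card ≤ S0.card ^ d := by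
    refine le_trans Finset.card_image_le ?_
    rw [Finset.card_univ, Fintype.card_fun, Fintype.card_coe, Fintype.card_fin]
  have hVmem : ∀ c : Fin d → F, (∀ i, c i ∈ S0) →
      (∑ i : Fin d, c i • N.val ^ (i : ℕ)) ∈ V := by
    intro c hc
    exact Finset.mem_image.mpr ⟨fun i => ⟨c i, hc i⟩, Finset.mem_univ _, rfl⟩
  have h0V : (0 : Matrix (Fin d) (Fin d) F) ∈ V := by
    have h1 := hVmem (fun _ => 0) (fun _ => h0)
    simpa using h1
  let T : Finset (F × ℕ) := (S0.erase 0) ×ˢ Finset.range m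
  have hTcard : T.card = (S0.card - 1) * m := by
    rw [Finset.card_product, Finset.card_erase_of_mem h0, Finset.card_range]
  let ψ : F × ℕ → Matrix (Fin d) (Fin d) F := fun p => p.1 • N.val ^ p.2
  have hψV : ∀ p ∈ T, ψ p ∈ V.erase 0 := by
    intro p hp
    obtain ⟨hp1, hp2⟩ := Finset.mem_product.mp hp
    obtain ⟨hp10, hp1S⟩ := Finset.mem_erase.mp hp1
    rw [Finset.mem_erase]
    constructor
    · intro h
      rcases smul_eq_zero.mp h with h | h
      · exact hp10 h
      · exact hpow_ne _ h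
    · obtain ⟨c, hc, hck⟩ := hspan p.2
      show p.1 • N.val ^ p.2 ∈ V
      rw [hck, Finset.smul_sum]
      simp only [smul_smul]
      exact hVmem (fun i => p.1 * c i) (fun i => hmul _ hp1S _ (hc i))
  have key : ∀ a ∈ S0.erase 0, ∀ b ∈ S0.erase 0, ∀ i j : ℕ, i ≤ j → j < m →
      a • N.val ^ i = b • N.val ^ j → i = j ∧ a = b := by
    intro a ha b hb i j hij hjm heq
    have ha0 : a ≠ 0 := (Finset.mem_erase.mp ha).1
    have hb0 : b ≠ 0 := (Finset.mem_erase.mp hb).1
    have hNj : N.val ^ j = N.val ^ i * N.val ^ (j - i) := by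
      rw [← pow_add]; congr 1; omega
    have h1 : N.val ^ (j - i) = (b⁻¹ * a) • (1 : Matrix (Fin d) (Fin d) F) := by
      have hinv : ((N⁻¹ ^ i : GL (Fin d) F) : Matrix (Fin d) (Fin d) F) * N.val ^ i = 1 := by
        rw [← Units.val_pow_eq_pow_val, ← Units.val_mul, inv_pow, inv_mul_cancel, Units.val_one]
      rw [hNj] at heq
      have h2 := congrArg
        (fun X => b⁻¹ • (((N⁻¹ ^ i : GL (Fin d) F) : Matrix (Fin d) (Fin d) F) * X)) heq
      simp only [Matrix.mul_smul, ← Matrix.mul_assoc, hinv, Matrix.one_mul, smul_smul] at h2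
      rw [inv_mul_cancel₀ hb0, one_smul] at h2
      rw [← h2]
    have h3 : (N ^ (j - i) : GL (Fin d) F) ∈ Subgroup.center (GL (Fin d) F) := by
      rw [Subgroup.mem_center_iff]
      intro x
      apply Units.ext
      rw [Units.val_mul, Units.val_mul, Units.val_pow_eq_pow_val, h1, Matrix.mul_smul,
        Matrix.smul_mul, mul_one, one_mul]
    have h4 : (QuotientGroup.mk N : GL (Fin d) F ⧸ Subgroup.center (GL (Fin d) F)) ^ (j - i)
        = 1 := by
      rw [← QuotientGroup.mk_pow]; exact (QuotientGroup.eq_one_iff _).mpr h3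
    have h5 : m ∣ j - i := by rw [hm]; exact orderOf_dvd_of_pow_eq_one h4
    have h6 : j - i = 0 := Nat.eq_zero_of_dvd_of_lt h5 (by omega)
    have hij' : i = j := by omega
    refine ⟨hij', ?_⟩
    subst hij'
    have h7 : (a - b) • N.val ^ i = 0 := by rw [sub_smul, heq, sub_self]
    rcases smul_eq_zero.mp h7 with h | h
    · exact sub_eq_zero.mp h
    · exact absurd h (hpow_ne _)
  have hψinj : Set.InjOn ψ T := by
    intro p hp p' hp' heq
    obtain ⟨hp1, hp2⟩ := Finset.mem_product.mp (Finset.mem_coe.mp hp)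
    obtain ⟨hp1', hp2'⟩ := Finset.mem_product.mp (Finset.mem_coe.mp hp')
    rw [Finset.mem_range] at hp2 hp2'
    rcases le_total p.2 p'.2 with hle | hle
    · obtain ⟨e1, e2⟩ := key p.1 hp1 p'.1 hp1' p.2 p'.2 hle hp2' heq
      exact Prod.ext e2 e1
    · obtain ⟨e1, e2⟩ := key p'.1 hp1' p.1 hp1 p'.2 p.2 hle hp2 heq.symm
      exact Prod.ext e2.symm e1.symm
  have hfin := Finset.card_le_card_of_injOn ψ hψV hψinj
  rw [hTcard, Finset.card_erase_of_mem h0V] at hfin
  omega

end Cfsg.Agent.Lib.Helper5.MeoB
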