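import Mathlib

/-!
# Powers of a matrix whose characteristic polynomial is fixed by a field endomorphism
(helper5; piece (B) of S2262)
-/

set_option autoImplicit false

namespace Cfsg.Agent.Lib.Helper5.MeoB

open Polynomial Matrix

variable {F : Type*} [Field F] {d : ℕ}

/-- if the characteristic polynomial of `M` is fixed by `f`, then every power of `M` is a combination of
`1, M, …, M ^ (d - 1)` with coefficients fixed by `f` -/
theorem pow_eq_sum (M : Matrix (Fin d) (Fin d) F) (f : F →+* F) (hd : 1 ≤ d)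
    (hχ : M.charpoly.map f = M.charpoly) (k : ℕ) :
    ∃ c : Fin d → F, (∀ i, f (c i) = c i) ∧ M ^ k = ∑ i : Fin d, c i • M ^ (i : ℕ) := by
  have hmon := M.charpoly_monic
  have hdeg : M.charpoly.natDegree = d := by
    rw [Matrix.charpoly_natDegree_eq_dim, Fintype.card_fin]
  have hne1 : M.charpoly ≠ 1 := by
    intro h1
    rw [h1, natDegree_one] at hdeg
    omega
  obtain ⟨r, hr⟩ : ∃ r, r = (X ^ k : F[X]) %ₘ M.charpoly := ⟨_, rfl⟩
  have hrdeg : r.natDegree < d := by
    rw [hr]
    calc ((X ^ k : F[X]) %ₘ M.charpoly).natDegree < M.charpoly.natDegree :=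
        natDegree_modByMonic_lt _ hmon hne1
      _ = d := hdeg
  have hrmap : r.map f = r := by
    rw [hr, map_modByMonic f hmon, hχ, Polynomial.map_pow, map_X]
  refine ⟨fun i => r.coeff i, ?_, ?_⟩
  · intro i
    have h0 := congrArg (fun p => p.coeff (i : ℕ)) hrmap
    simpa [coeff_map] using h0
  · have h1 : aeval M ((X : F[X]) ^ k) = M ^ k := by rw [map_pow, aeval_X]
    have h2 : aeval M ((X : F[X]) ^ k) = aeval M r := by
      conv_lhs => rw [← modByMonic_add_div (X ^ k : F[X]) M.charpoly]
      rw [map_add, map_mul, Matrix.aeval_self_charpoly, zero_mul, add_zero, hr]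
    rw [← h1, h2, aeval_eq_sum_range' hrdeg,
      Fin.sum_univ_eq_sum_range (fun i => r.coeff i • M ^ i) d]

end Cfsg.Agent.Lib.Helper5.MeoB
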