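import Cfsg.Agent.Lib.Helper8.MeoL.Tw

/-!
# The twisted power `g σ(g) ⋯ σ^{e-1}(g)` is conjugate to its image under `σ`
(helper5; piece (B) of S2262)
-/

set_option autoImplicit false

namespace Cfsg.Agent.Lib.Helper5.MeoB

open Matrix Cfsg.Agent.Lib.Helper8.MeoL

variable {n : ℕ} {F : Type*} [Field F]

theorem map_map_aut (σ τ : RingAut F) (x : GL (Fin n) F) :
    GeneralLinearGroup.map (σ : F →+* F) (GeneralLinearGroup.map (τ : F →+* F) x)
      = GeneralLinearGroup.map ((σ * τ : RingAut F) : F →+* F) x := by
  apply Units.ext; ext i j; rfl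

theorem map_one_aut (x : GL (Fin n) F) :
    GeneralLinearGroup.map ((1 : RingAut F) : F →+* F) x = x := by
  apply Units.ext; ext i j; rfl

theorem twPow_succ_right (σ : RingAut F) (g : GL (Fin n) F) (k : ℕ) :
    twPow σ g (k + 1)
      = twPow σ g k * GeneralLinearGroup.map ((σ ^ k : RingAut F) : F →+* F) g := by
  induction k with
  | zero => rw [twPow_succ, twPow_zero, map_one, mul_one, one_mul, pow_zero, map_one_aut]
  | succ k ih =>
    calc twPow σ g (k + 1 + 1)
        = g * GeneralLinearGroup.map (σ : F →+* F) (twPow σ g (k + 1)) := twPow_succ σ g (k + 1)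
      _ = g * GeneralLinearGroup.map (σ : F →+* F)
            (twPow σ g k * GeneralLinearGroup.map ((σ ^ k : RingAut F) : F →+* F) g) := by rw [ih]
      _ = g * GeneralLinearGroup.map (σ : F →+* F) (twPow σ g k) *
            GeneralLinearGroup.map ((σ ^ (k + 1) : RingAut F) : F →+* F) g := by
          rw [map_mul, map_map_aut, ← mul_assoc, ← pow_succ']
      _ = twPow σ g (k + 1) *
            GeneralLinearGroup.map ((σ ^ (k + 1) : RingAut F) : F →+* F) g := by rw [← twPow_succ]

theorem map_twPow_orderOf (σ : RingAut F) (g : GL (Fin n) F) :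
    GeneralLinearGroup.map (σ : F →+* F) (twPow σ g (orderOf σ))
      = g⁻¹ * twPow σ g (orderOf σ) * g := by
  have h1 := twPow_succ σ g (orderOf σ)
  rw [twPow_succ_right, pow_orderOf_eq_one, map_one_aut] at h1
  rw [mul_assoc, h1, inv_mul_cancel_left]

/-- the characteristic polynomial of the twisted power has coefficients fixed by `σ` -/
theorem charpoly_twPow_map (σ : RingAut F) (g : GL (Fin n) F) :
    ((twPow σ g (orderOf σ)).val.charpoly).map (σ : F →+* F)
      = (twPow σ g (orderOf σ)).val.charpoly := by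
  rw [← Matrix.charpoly_map]
  have h1 : (twPow σ g (orderOf σ)).val.map (σ : F →+* F)
      = (GeneralLinearGroup.map (σ : F →+* F) (twPow σ g (orderOf σ))).val := rfl
  rw [h1, map_twPow_orderOf]
  show ((g⁻¹).val * (twPow σ g (orderOf σ)).val * g.val).charpoly = _
  rw [Matrix.coe_units_inv]
  exact Matrix.charpoly_units_conj' g _

end Cfsg.Agent.Lib.Helper5.MeoB
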