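import Cfsg.Agent.Lib.Helper5.MeoB.Num
import Cfsg.Agent.Lib.Helper5.MeoB.Span
import Cfsg.Agent.Lib.Helper5.MeoB.TwId
import Cfsg.Agent.Lib.Helper5.MeoB.Count

/-!
# Element orders in the field-automorphism cosets of `PΓL_d(q)` (helper5; piece (B) of S2262 for helper8)

For a field automorphism `σ ≠ 1` of order `e` of the field `F` with `q = q0 ^ e` elements and `g ∈ GL_d(F)`,
the twisted power `N = g σ(g) ⋯ σ^{e-1}(g)` has characteristic polynomial over the fixed field, so its order
`m` modulo scalars satisfies `(q0 - 1) m ≤ q0 ^ d - 1`; hence `(q - 1) e m ≤ q ^ d - 1` (`field_bound`)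
and, for `d ≥ 3`, `2 (q - 1) e m ≤ q ^ d - 1` (`field_bound2`), with the stated exceptions.
-/

set_option autoImplicit false

namespace Cfsg.Agent.Lib.Helper5.MeoB

open Matrix Cfsg.Agent.Lib.Helper8.MeoL

theorem mem_fix_iff {F : Type*} [Field F] (σ : RingAut F) (t : F) :
    t ∈ FixedPoints.subfield (Subgroup.zpowers σ) F ↔ σ t = t := by
  constructor
  · intro h
    exact h ⟨σ, Subgroup.mem_zpowers σ⟩
  · intro h g
    have hle : Subgroup.zpowers σ ≤ MulAction.stabilizer (RingAut F) t := by
      rw [Subgroup.zpowers_le]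
      exact h
    exact hle g.2

/-- the number of elements of a finite field is a power of the number of fixed points of an
automorphism, the exponent being the order (as in helper7's `card_fixed_pow`) -/
theorem card_fix_pow {F : Type*} [Field F] [Fintype F] [DecidableEq F] (σ : RingAut F) :
    Fintype.card F = (Finset.univ.filter (fun x : F => σ x = x)).card ^ orderOf σ := by
  have : Finite (RingAut F) := Finite.of_injective (fun σ : RingAut F => (σ : F → F))
    (fun a b h => RingEquiv.ext (congrFun h))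
  have hfo : IsOfFinOrder σ := isOfFinOrder_of_finite σ
  have hfin : Finite (Subgroup.zpowers σ) := Set.finite_coe_iff.2 hfo.finite_zpowers
  let _ : Fintype (Subgroup.zpowers σ) := Fintype.ofFinite _
  let _ : Fintype (FixedPoints.subfield (Subgroup.zpowers σ) F) := Fintype.ofFinite _
  have h1 : Module.finrank (FixedPoints.subfield (Subgroup.zpowers σ) F) F = orderOf σ := by
    rw [FixedPoints.finrank_eq_card, ← Nat.card_eq_fintype_card, Nat.card_zpowers]
  have h2 := Module.card_eq_pow_finrank (K := FixedPoints.subfield (Subgroup.zpowers σ) F) (V := F)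
  rw [h1] at h2
  rw [h2]
  congr 1
  apply Fintype.card_of_subtype
  intro x
  rw [Finset.mem_filter, mem_fix_iff]
  simp

theorem field_core {F : Type*} [Field F] [Fintype F] [DecidableEq F] (d : ℕ) (hd : 1 ≤ d)
    (σ : RingAut F) (g : GL (Fin d) F) :
    ((Finset.univ.filter (fun x : F => σ x = x)).card - 1) *
      orderOf (QuotientGroup.mk (twPow σ g (orderOf σ)) :
        GL (Fin d) F ⧸ Subgroup.center (GL (Fin d) F))
      ≤ (Finset.univ.filter (fun x : F => σ x = x)).card ^ d - 1 := by
  apply count_bound hd (Finset.univ.filter (fun x : F => σ x = x))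
  · simp
  · intro a ha b hb
    simp only [Finset.mem_filter, Finset.mem_univ, true_and] at ha hb ⊢
    rw [map_mul, ha, hb]
  · intro k
    obtain ⟨c, hc, hk⟩ := pow_eq_sum (twPow σ g (orderOf σ)).val (σ : F →+* F) hd
      (charpoly_twPow_map σ g) k
    refine ⟨c, fun i => ?_, hk⟩
    simp only [Finset.mem_filter, Finset.mem_univ, true_and]
    exact hc i

theorem two_le_card_fix {F : Type*} [Field F] [Fintype F] [DecidableEq F] (σ : RingAut F) :
    2 ≤ (Finset.univ.filter (fun x : F => σ x = x)).card := by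
  apply Finset.one_lt_card.mpr
  refine ⟨0, ?_, 1, ?_, zero_ne_one⟩
  · simp
  · simp

theorem two_le_orderOf {F : Type*} [Field F] [Fintype F] (σ : RingAut F) (hσ : σ ≠ 1) :
    2 ≤ orderOf σ := by
  have hfin : Finite (RingAut F) := Finite.of_injective (fun σ : RingAut F => (σ : F → F))
    (fun a b h => RingEquiv.ext (congrFun h))
  have h1 : orderOf σ ≠ 1 := fun h1 => hσ (orderOf_eq_one_iff.1 h1)
  have h0 : 0 < orderOf σ := orderOf_pos σ
  omega

theorem field_bound {F : Type*} [Field F] [Fintype F] (d : ℕ) (hd : 2 ≤ d) (σ : RingAut F)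
    (hσ : σ ≠ 1) (g : GL (Fin d) F) (h24 : ¬ (d = 2 ∧ Fintype.card F = 4)) :
    (Fintype.card F - 1) * (orderOf σ * orderOf (QuotientGroup.mk (twPow σ g (orderOf σ)) :
      GL (Fin d) F ⧸ Subgroup.center (GL (Fin d) F))) ≤ Fintype.card F ^ d - 1 := by
  classical
  have he := two_le_orderOf σ hσ
  have hcard := card_fix_pow σ
  have hcore := field_core d (by omega) σ g
  have hq0 := two_le_card_fix σ
  rw [hcard] at h24 ⊢
  exact final1 _ (orderOf σ) d _ hq0 he hd h24 hcore

theorem field_bound2 {F : Type*} [Field F] [Fintype F] (d : ℕ) (hd : 3 ≤ d) (σ : RingAut F)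
    (hσ : σ ≠ 1) (g : GL (Fin d) F) (h34 : ¬ (d = 3 ∧ Fintype.card F = 4)) :
    2 * ((Fintype.card F - 1) * (orderOf σ * orderOf (QuotientGroup.mk (twPow σ g (orderOf σ)) :
      GL (Fin d) F ⧸ Subgroup.center (GL (Fin d) F)))) ≤ Fintype.card F ^ d - 1 := by
  classical
  have he := two_le_orderOf σ hσ
  have hcard := card_fix_pow σ
  have hcore := field_core d (by omega) σ g
  have hq0 := two_le_card_fix σ
  rw [hcard] at h34 ⊢
  exact final2 _ (orderOf σ) d _ hq0 he hd h34 hcore

end Cfsg.Agent.Lib.Helper5.MeoB
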