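import Mathlib

/-!
# Numerical lemmas for the field-automorphism cosets of `PΓL_d(q)` (helper5; piece (B) of S2262)
-/

set_option autoImplicit false

namespace Cfsg.Agent.Lib.Helper5.MeoB

theorem num1_aux (z e : ℕ) (he : 3 ≤ e) : e * (2 * z + 3) ≤ (z + 2) ^ e + 1 := by
  induction e, he using Nat.le_induction with
  | base => nlinarith [sq_nonneg z, Nat.zero_le (z ^ 3)]
  | succ e he ih =>
    rw [pow_succ]
    have h1 := Nat.mul_le_mul_right (z + 2) ih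
    have h2 : 3 * (2 * z + 3) ≤ e * (2 * z + 3) := Nat.mul_le_mul_right _ he
    nlinarith [Nat.zero_le (e * z), Nat.zero_le (e * z * z)]

theorem num1 (y e : ℕ) (hy : 2 ≤ y) (he : 2 ≤ e) (h : ¬ (y = 2 ∧ e = 2)) :
    e * (2 * y - 1) ≤ y ^ e + 1 := by
  rcases Nat.lt_or_ge e 3 with h3 | h3
  · have he2 : e = 2 := by omega
    subst he2
    obtain ⟨z, rfl⟩ : ∃ z, y = z + 3 := ⟨y - 3, by omega⟩
    have e1 : 2 * (z + 3) - 1 = 2 * z + 5 := by omega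
    rw [e1]
    nlinarith [sq_nonneg z]
  · obtain ⟨z, rfl⟩ : ∃ z, y = z + 2 := ⟨y - 2, by omega⟩
    have e1 : 2 * (z + 2) - 1 = 2 * z + 3 := by omega
    rw [e1]
    exact num1_aux z e h3

theorem num2_aux (z e : ℕ) (he : 3 ≤ e) : 2 * (e * (2 * z + 7)) ≤ (z + 4) ^ e := by
  induction e, he using Nat.le_induction with
  | base => nlinarith [sq_nonneg z, Nat.zero_le (z ^ 3)]
  | succ e he ih =>
    rw [pow_succ]
    have h1 := Nat.mul_le_mul_right (z + 4) ih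
    nlinarith [Nat.zero_le (e * z), Nat.zero_le (e * z * z)]

theorem num2 (y e : ℕ) (hy : 4 ≤ y) (he : 2 ≤ e) (h : 3 ≤ e ∨ 8 ≤ y) :
    2 * (e * (2 * y - 1)) ≤ y ^ e := by
  rcases Nat.lt_or_ge e 3 with h3 | h3
  · have he2 : e = 2 := by omega
    subst he2
    have hy8 : 8 ≤ y := by omega
    obtain ⟨z, rfl⟩ : ∃ z, y = z + 8 := ⟨y - 8, by omega⟩
    have e1 : 2 * (z + 8) - 1 = 2 * z + 15 := by omega
    rw [e1]
    nlinarith [sq_nonneg z]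
  · obtain ⟨z, rfl⟩ : ∃ z, y = z + 4 := ⟨y - 4, by omega⟩
    have e1 : 2 * (z + 4) - 1 = 2 * z + 7 := by omega
    rw [e1]
    exact num2_aux z e h3

/-- from `(q0 - 1) m ≤ q0 ^ d - 1` to `m ≤ 2 q0 ^ (d - 1) - 1` -/
theorem m_le (q0 d m : ℕ) (hq0 : 2 ≤ q0) (hd : 1 ≤ d) (h : (q0 - 1) * m ≤ q0 ^ d - 1) :
    m ≤ 2 * q0 ^ (d - 1) - 1 := by
  obtain ⟨k, rfl⟩ : ∃ k, d = k + 1 := ⟨d - 1, by omega⟩
  obtain ⟨p, rfl⟩ : ∃ p, q0 = p + 2 := ⟨q0 - 2, by omega⟩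
  simp only [Nat.add_sub_cancel] at *
  have e1 : p + 2 - 1 = p + 1 := by omega
  rw [e1, pow_succ] at h
  have hy : 1 ≤ (p + 2) ^ k := Nat.one_le_pow _ _ (by omega)
  by_contra hcon
  have h2 : 2 * (p + 2) ^ k ≤ m := by omega
  have h3 := Nat.mul_le_mul_left (p + 1) h2
  have h4 : (p + 2) ^ k * (p + 2) ≤ (p + 1) * (2 * (p + 2) ^ k) := by nlinarith
  have h5 : 1 ≤ (p + 2) ^ k * (p + 2) := by nlinarith
  omega

/-- the final inequality, first form -/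
theorem final1 (q0 e d m : ℕ) (hq0 : 2 ≤ q0) (he : 2 ≤ e) (hd : 2 ≤ d)
    (h24 : ¬ (d = 2 ∧ q0 ^ e = 4)) (h : (q0 - 1) * m ≤ q0 ^ d - 1) :
    (q0 ^ e - 1) * (e * m) ≤ (q0 ^ e) ^ d - 1 := by
  have hm := m_le q0 d m hq0 (by omega) h
  obtain ⟨k, rfl⟩ : ∃ k, d = k + 1 := ⟨d - 1, by omega⟩
  have hk : 1 ≤ k := by omega
  simp only [Nat.add_sub_cancel] at hm
  have hy : 2 ≤ q0 ^ k := by
    calc 2 ≤ q0 := hq0
      _ = q0 ^ 1 := (pow_one _).symm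
      _ ≤ q0 ^ k := Nat.pow_le_pow_right (by omega) hk
  have hne : ¬ (q0 ^ k = 2 ∧ e = 2) := by
    rintro ⟨h1, h2⟩
    apply h24
    have hk1 : k = 1 := by
      by_contra hk1
      have : 2 ≤ k := by omega
      have : q0 ^ 2 ≤ q0 ^ k := Nat.pow_le_pow_right (by omega) this
      nlinarith
    subst hk1
    rw [pow_one] at h1
    subst h1; subst h2
    exact ⟨rfl, by norm_num⟩
  have h1 := num1 (q0 ^ k) e hy he hne
  have e1 : (q0 ^ k) ^ e = (q0 ^ e) ^ k := by rw [← pow_mul, ← pow_mul, mul_comm]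
  rw [e1] at h1
  have hq : 2 ≤ q0 ^ e := by
    calc 2 ≤ q0 := hq0
      _ = q0 ^ 1 := (pow_one _).symm
      _ ≤ q0 ^ e := Nat.pow_le_pow_right (by omega) (by omega)
  obtain ⟨q, hq'⟩ : ∃ q, q = q0 ^ e := ⟨_, rfl⟩
  rw [← hq'] at h1 hq ⊢
  have hQ : q ≤ q ^ k := by
    calc q = q ^ 1 := (pow_one _).symm
      _ ≤ q ^ k := Nat.pow_le_pow_right (by omega) hk
  rw [pow_succ]
  obtain ⟨p, rfl⟩ : ∃ p, q = p + 1 := ⟨q - 1, by omega⟩
  simp only [Nat.add_sub_cancel]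
  have h2 : e * m ≤ e * (2 * q0 ^ k - 1) := Nat.mul_le_mul_left _ hm
  have h3 : p * (e * m) ≤ p * ((p + 1) ^ k + 1) := Nat.mul_le_mul_left _ (le_trans h2 h1)
  have h4 : p * ((p + 1) ^ k + 1) + 1 ≤ (p + 1) ^ k * (p + 1) := by nlinarith
  omega

/-- the final inequality, second form -/
theorem final2 (q0 e d m : ℕ) (hq0 : 2 ≤ q0) (he : 2 ≤ e) (hd : 3 ≤ d)
    (h34 : ¬ (d = 3 ∧ q0 ^ e = 4)) (h : (q0 - 1) * m ≤ q0 ^ d - 1) :
    2 * ((q0 ^ e - 1) * (e * m)) ≤ (q0 ^ e) ^ d - 1 := by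
  have hm := m_le q0 d m hq0 (by omega) h
  obtain ⟨k, rfl⟩ : ∃ k, d = k + 1 := ⟨d - 1, by omega⟩
  have hk : 2 ≤ k := by omega
  simp only [Nat.add_sub_cancel] at hm
  have hy : 4 ≤ q0 ^ k := by
    calc 4 = 2 ^ 2 := by norm_num
      _ ≤ q0 ^ 2 := Nat.pow_le_pow_left hq0 2
      _ ≤ q0 ^ k := Nat.pow_le_pow_right (by omega) hk
  have hor : 3 ≤ e ∨ 8 ≤ q0 ^ k := by
    by_contra hcon
    rw [not_or, not_le, not_le] at hcon
    obtain ⟨h1, h2⟩ := hcon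
    have he2 : e = 2 := by omega
    apply h34
    have hq2 : q0 = 2 := by
      by_contra hq2
      have h3 : 3 ≤ q0 := by omega
      have : 3 ^ 2 ≤ q0 ^ k :=
        le_trans (Nat.pow_le_pow_left h3 2) (Nat.pow_le_pow_right (by omega) hk)
      omega
    have hk2 : k = 2 := by
      by_contra hk2
      have h3 : 3 ≤ k := by omega
      have : q0 ^ 3 ≤ q0 ^ k := Nat.pow_le_pow_right (by omega) h3
      rw [hq2] at this h2
      omega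
    subst hq2; subst he2; subst hk2
    exact ⟨rfl, by norm_num⟩
  have h1 := num2 (q0 ^ k) e hy he hor
  have e1 : (q0 ^ k) ^ e = (q0 ^ e) ^ k := by rw [← pow_mul, ← pow_mul, mul_comm]
  rw [e1] at h1
  have hq : 2 ≤ q0 ^ e := by
    calc 2 ≤ q0 := hq0
      _ = q0 ^ 1 := (pow_one _).symm
      _ ≤ q0 ^ e := Nat.pow_le_pow_right (by omega) (by omega)
  obtain ⟨q, hq'⟩ : ∃ q, q = q0 ^ e := ⟨_, rfl⟩
  rw [← hq'] at h1 hq ⊢
  have hQ : 1 ≤ q ^ k := Nat.one_le_pow _ _ (by omega)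
  rw [pow_succ]
  obtain ⟨p, rfl⟩ : ∃ p, q = p + 1 := ⟨q - 1, by omega⟩
  simp only [Nat.add_sub_cancel]
  have h2 : 2 * (e * m) ≤ 2 * (e * (2 * q0 ^ k - 1)) :=
    Nat.mul_le_mul_left _ (Nat.mul_le_mul_left _ hm)
  have h3 : p * (2 * (e * m)) ≤ p * (p + 1) ^ k := Nat.mul_le_mul_left _ (le_trans h2 h1)
  have h4 : p * (p + 1) ^ k + 1 ≤ (p + 1) ^ k * (p + 1) := by nlinarith
  have h5 : 2 * (p * (e * m)) = p * (2 * (e * m)) := by ring
  omega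

end Cfsg.Agent.Lib.Helper5.MeoB
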